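import Mathlib
import Cfsg.Agent.GroupStructure3.MathieuSub.M22
import Cfsg.Agent.GroupStructure3.MathieuSub.M23
import Cfsg.Agent.S5604

/-!
The fixer of two points in M24 has no subgroups of index 12 or 45 (nor 56).
-/

set_option autoImplicit false

namespace Cfsg.Agent.GroupStructure3.HSOut

open Cfsg Cfsg.Agent.Golay.Basic Cfsg.Agent.Golay.Perm Cfsg.Agent.Golay.M24
  Cfsg.Agent.GroupStructure3.MathieuSub

local notation "pG" => Equiv.Perm GolayPt

variable {a b : GolayPt} (hab : a ≠ b) {L : Subgroup pG} (hL : L ≤ fixers M24 [a, b])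
include hab hL

/-- No involution fixing two points normalises a subgroup of order seven fixing them. -/
theorem no_normalising {x y : pG} (hx : x ∈ L) (hy : y ∈ L) (hx7 : orderOf x = 7)
    (hy2 : orderOf y = 2) {j : ℕ} (hj : y * x * y⁻¹ = x ^ j) : False := by
  classical
  haveI : Fact (Nat.Prime 7) := ⟨by norm_num⟩
  have hyM := (hL hy).1
  have hxM := (hL hx).1
  have hya : y a = a := (hL hy).2 a (by simp)
  have hyb : y b = b := (hL hy).2 b (by simp)
  have hxa : x a = a := (hL hx).2 a (by simp)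
  have hxb : x b = b := (hL hx).2 b (by simp)
  have hy8 : (fixF y).card = 8 := (two_fix_octad hyM hy2 ⟨a, mem_fixF.2 hya⟩) |>
    fun h => Cfsg.Agent.Golay.Design.octad_card h
  have hlt : (fixF x).card < 5 := by
    by_contra h5
    have := orderOf_dvd_of_fix hxM (by omega)
    rw [hx7] at this
    norm_num at this
  have hmod := fixF_mod hx7
  have hfix3 : (fixF x).card = 3 := by
    have h2 : 2 ≤ (fixF x).card := by
      rw [← Finset.card_pair hab]
      exact Finset.card_le_card (by simp [Finset.insert_subset_iff, mem_fixF, hxa, hxb])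
    omega
  have horb : ∀ p, x p ≠ p → ∀ m : ℤ, (x ^ m) p = p → (7 : ℤ) ∣ m := by
    intro p hp m hm
    by_contra h7
    have hco : IsCoprime m (7 : ℤ) :=
      ((by norm_num : Prime (7 : ℤ)).coprime_iff_not_dvd.2 h7).symm
    obtain ⟨u, v, huv⟩ := hco
    refine hp ?_
    have h7' : x ^ (7 : ℤ) = 1 := by
      rw [show (7 : ℤ) = ((7 : ℕ) : ℤ) from rfl, zpow_natCast, ← hx7, pow_orderOf_eq_one]
    calc x p = (x ^ (u * m + v * 7)) p := by rw [huv, zpow_one]
      _ = ((x ^ m) ^ u) p := by
        rw [zpow_add, zpow_mul', zpow_mul' x v 7, h7', one_zpow, mul_one]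
      _ = p := Equiv.Perm.zpow_apply_eq_self_of_apply_eq_self hm u
  have hj2 : ∀ (i : ℕ) (p : GolayPt), y p = p → y ((x ^ i) p) = (x ^ (j * i)) p := by
    intro i p hp
    have h : y * x ^ i * y⁻¹ = x ^ (j * i) := by rw [← conj_pow, hj, ← pow_mul]
    rw [← h, Equiv.Perm.mul_apply, Equiv.Perm.mul_apply,
      show y⁻¹ p = p from Equiv.Perm.inv_eq_iff_eq.2 hp.symm]
  have hjj : 7 ∣ j * j + 6 := by
    have h1 : y * (y * x * y⁻¹) * y⁻¹ = x := by
      have hyy : y * y = 1 := by
        have h := pow_orderOf_eq_one y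
        rwa [hy2, pow_two] at h
      calc y * (y * x * y⁻¹) * y⁻¹ = (y * y) * x * (y * y)⁻¹ := by group
        _ = x := by rw [hyy, inv_one, one_mul, mul_one]
    rw [hj, ← conj_pow, hj, ← pow_mul] at h1
    have h2 : x ^ (j * j) = x ^ 1 := by rw [pow_one]; exact h1
    have := pow_eq_pow_iff_modEq.1 h2
    rw [hx7] at this
    have h3 : (j * j) % 7 = 1 := this
    omega
  let P := fixF y \ fixF x
  have hP : 5 ≤ P.card := by
    show 5 ≤ (fixF y \ fixF x).card
    have := Finset.le_card_sdiff (fixF x) (fixF y)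
    omega
  have hmemP : ∀ p ∈ P, y p = p ∧ x p ≠ p := fun p hp => by
    simpa [P, mem_fixF] using hp
  by_cases hj1 : j % 7 = 1
  · -- a centralising involution fixes a whole orbit
    obtain ⟨p, hp⟩ := Finset.card_pos.1 (show 0 < P.card by omega)
    obtain ⟨hyp, hxp⟩ := hmemP p hp
    have hsub : fixF x ∩ {a, b} ∪ (Finset.univ : Finset (Fin 7)).image (fun i : Fin 7 => (x ^ (i : ℕ)) p)
        ⊆ fixF y := by
      intro z hz
      rcases Finset.mem_union.1 hz with hz | hz
      · have := (Finset.mem_inter.1 hz).2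
        simp only [Finset.mem_insert, Finset.mem_singleton] at this
        rcases this with rfl | rfl
        exacts [mem_fixF.2 hya, mem_fixF.2 hyb]
      · obtain ⟨i, -, rfl⟩ := Finset.mem_image.1 hz
        rw [mem_fixF, hj2 _ _ hyp]
        have e : x ^ (j * (i : ℕ)) = x ^ (i : ℕ) := by
          rw [pow_eq_pow_iff_modEq, hx7]
          calc j * (i : ℕ) ≡ 1 * i [MOD 7] := Nat.ModEq.mul_right _ (show j ≡ 1 [MOD 7] from hj1)
            _ = i := one_mul _
        rw [e]
    have hc := Finset.card_le_card hsub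
    rw [Finset.card_union_of_disjoint, Finset.card_image_of_injective, Finset.card_univ,
      Fintype.card_fin, show fixF x ∩ {a, b} = {a, b} from Finset.inter_eq_right.2
        (by simp [Finset.insert_subset_iff, mem_fixF, hxa, hxb]), Finset.card_pair hab, hy8] at hc
    · omega
    · intro i k hik
      have e : (x ^ ((i : ℤ) - k)) p = p := by
        have e' : (x ^ (i : ℕ)) p = (x ^ (k : ℕ)) p := hik
        rw [sub_eq_neg_add, zpow_add, Equiv.Perm.mul_apply, zpow_natCast, e', ← zpow_natCast,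
          ← Equiv.Perm.mul_apply, ← zpow_add, neg_add_cancel, zpow_zero, Equiv.Perm.one_apply]
      have := horb p hxp _ e
      exact Fin.ext (by omega)
    · rw [Finset.disjoint_left]
      intro z hz hz'
      obtain ⟨i, -, rfl⟩ := Finset.mem_image.1 hz'
      have hzx := mem_fixF.1 (Finset.mem_inter.1 hz).1
      rw [← Equiv.Perm.mul_apply, ← pow_succ', pow_succ, Equiv.Perm.mul_apply] at hzx
      exact hxp ((x ^ (i : ℕ)).injective hzx)
  · -- an inverting involution fixes at most one point of each orbit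
    have hj6 : j % 7 = 6 := by
      have key : ∀ r < 7, 7 ∣ r * r + 6 → r = 1 ∨ r = 6 := by decide
      refine (key (j % 7) (Nat.mod_lt _ (by norm_num)) ?_).resolve_left hj1
      have : (j % 7 * (j % 7) + 6) % 7 = (j * j + 6) % 7 :=
        Nat.ModEq.add_right 6 ((Nat.mod_modEq j 7).mul (Nat.mod_modEq j 7))
      omega
    have hc := Finset.card_le_card_of_injOn (s := P ×ˢ (Finset.univ : Finset (Fin 7)))
      (t := (Finset.univ : Finset GolayPt)) (fun q => (x ^ (q.2 : ℕ)) q.1)
      (fun _ _ => Finset.mem_coe.2 (Finset.mem_univ _)) (by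
      rintro ⟨p, i⟩ hp ⟨q, k⟩ hq e
      simp only [Finset.mem_coe, Finset.mem_product, Finset.mem_univ, and_true] at hp hq
      obtain ⟨hyp, hxp⟩ := hmemP p hp
      obtain ⟨hyq, -⟩ := hmemP q hq
      simp only at e
      set m := (i : ℕ) + (7 - (k : ℕ)) with hm
      have hq' : q = (x ^ m) p := by
        have h7' : x ^ 7 = 1 := by rw [← hx7]; exact pow_orderOf_eq_one x
        rw [hm, add_comm, pow_add, Equiv.Perm.mul_apply, e, ← Equiv.Perm.mul_apply, ← pow_add,
          Nat.sub_add_cancel k.2.le, h7', Equiv.Perm.one_apply]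
      have hyq' : (x ^ (j * m)) p = (x ^ m) p := by rw [← hj2 _ _ hyp, ← hq', hyq]
      have e2 : (x ^ (((j * m : ℕ) : ℤ) - (m : ℤ))) p = p := by
        rw [sub_eq_neg_add, zpow_add, Equiv.Perm.mul_apply, zpow_natCast, hyq', ← zpow_natCast,
          ← Equiv.Perm.mul_apply, ← zpow_add, neg_add_cancel, zpow_zero, Equiv.Perm.one_apply]
      have hd := horb p hxp _ e2
      have hd7 : 7 ∣ 5 * m := by
        have : ((j * m : ℕ) : ℤ) - m = (((j : ℤ) - 6) * m) + 5 * m := by push_cast; ring
        rw [this] at hd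
        have h6 : (7 : ℤ) ∣ ((j : ℤ) - 6) * m := Dvd.dvd.mul_right (by omega) _
        have := (dvd_add_right h6).1 hd
        omega
      have hik : (i : ℕ) = k := by omega
      have hik' : i = k := Fin.ext hik
      subst hik'
      exact Prod.ext ((x ^ (i : ℕ)).injective e) rfl)
    rw [Finset.card_product, Finset.card_univ, Finset.card_univ, Fintype.card_fin,
      Cfsg.Agent.Golay.Sextet.card_pts] at hc
    omega

theorem not_card_36960 : Nat.card L ≠ 36960 := by
  classical
  intro hc
  haveI : Fact (Nat.Prime 7) := ⟨by norm_num⟩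
  haveI : Fact (Nat.Prime 2) := ⟨Nat.prime_two⟩
  have hLM : L ≤ M24 := hL.trans (fixers_le _ _)
  obtain ⟨P⟩ : Nonempty (Sylow 7 L) := inferInstance
  have hP : Nat.card (P : Subgroup L) = 7 := by
    rw [P.card_eq_multiplicity, hc, show (36960 : ℕ).factorization 7 = 1 from ?_, pow_one]
    rw [Nat.factorization_def _ (by norm_num : Nat.Prime 7), show (36960 : ℕ) = 7 * 5280 by norm_num,
      padicValNat.mul (by norm_num) (by norm_num), padicValNat.self (by norm_num),
      padicValNat.eq_zero_of_not_dvd (by norm_num)]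
  set N := Subgroup.normalizer ((P : Subgroup L) : Set L) with hN
  have hn : Nat.card (Sylow 7 L) % 7 = 1 := card_sylow_modEq_one 7 L
  have hmul : Nat.card (Sylow 7 L) * Nat.card N = 36960 := by
    rw [P.card_eq_index_normalizer]
    show N.index * Nat.card N = _
    rw [Subgroup.index_mul_card, hc]
  set P' : Subgroup M24 := (P : Subgroup L).map (Subgroup.inclusion hLM) with hP'def
  have hP' : Nat.card P' = 7 := by
    rw [hP'def, Subgroup.card_map_of_injective (Subgroup.inclusion_injective hLM), hP]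
  have hmem : ∀ z : L, Subgroup.inclusion hLM z ∈ P' ↔ z ∈ (P : Subgroup L) := fun z =>
    Subgroup.mem_map_iff_mem (Subgroup.inclusion_injective hLM)
  have hle : N.map (Subgroup.inclusion hLM) ≤ Subgroup.normalizer (P' : Set M24) := by
    exact le_trans (Subgroup.le_normalizer_map _) (by simp [hP'def])
  have hdvd : Nat.card N ∣ 126 := by
    rw [← (Cfsg.Agent.S5604.result P' hP').1,
      ← Subgroup.card_map_of_injective (K := N) (Subgroup.inclusion_injective hLM)]
    exact Subgroup.card_dvd_of_le hle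
  have hd' : Nat.card N ∣ 36960 := Dvd.intro_left _ hmul
  have h7 : 7 ∣ Nat.card N := hP ▸ Subgroup.card_dvd_of_le Subgroup.le_normalizer
  have key : ∀ N ∈ Nat.divisors 126, N ∣ 36960 → 7 ∣ N → (36960 / N) % 7 = 1 → 2 ∣ N := by
    decide +kernel
  have h2 : 2 ∣ Nat.card N := key _ (Nat.mem_divisors.2 ⟨hdvd, by norm_num⟩) hd' h7 (by
    rw [← hmul, Nat.mul_div_cancel _ Nat.card_pos, hn])
  obtain ⟨y, hy⟩ := exists_prime_orderOf_dvd_card' 2 h2
  obtain ⟨x, hx⟩ := exists_prime_orderOf_dvd_card' 7 (G := (P : Subgroup L)) (by rw [hP])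
  have hxP : (P : Subgroup L) = Subgroup.zpowers (x : L) := by
    refine (Subgroup.eq_of_le_of_card_ge (Subgroup.zpowers_le.2 x.2) ?_).symm
    rw [Nat.card_zpowers, Subgroup.orderOf_coe, hx, hP]
  have hm : (y : L) * (x : L) * (y : L)⁻¹ ∈ Subgroup.zpowers (x : L) := by
    rw [← hxP]; exact (Subgroup.mem_normalizer_iff.1 y.2 _).1 x.2
  obtain ⟨k, -, hk⟩ := Finset.mem_image.1
    ((isOfFinOrder_of_finite (x : L)).mem_zpowers_iff_mem_range_orderOf.1 hm)
  exact no_normalising hab hL (x := ((x : L) : pG)) (y := ((y : L) : pG)) (x : L).2 (y : L).2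
    (by rw [Subgroup.orderOf_coe, Subgroup.orderOf_coe, hx])
    (by rw [Subgroup.orderOf_coe, Subgroup.orderOf_coe, hy]) (j := k)
    (by rw [← Subgroup.coe_inv, ← Subgroup.coe_mul, ← Subgroup.coe_mul, ← hk, Subgroup.coe_pow])

theorem not_card_9856 : Nat.card L ≠ 9856 := by
  intro hc
  obtain ⟨n, N, hn, hmul, h11, h110, -⟩ := card_sylow_normalizer (selfCent hab hL)
    (by rw [hc]; norm_num) (by rw [hc]; norm_num)
  rw [hc] at hmul
  have key : ∀ N ∈ Nat.divisors 110, 11 ∣ N → N ∣ 9856 → (9856 / N) % 11 ≠ 1 := by decide +kernel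
  refine key N (Nat.mem_divisors.2 ⟨h110, by norm_num⟩) h11 ⟨n, by rw [← hmul]; ring⟩ ?_
  rw [← hmul, Nat.mul_div_cancel _ (Nat.pos_of_dvd_of_pos h110 (by norm_num)), hn]

end Cfsg.Agent.GroupStructure3.HSOut
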