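import Mathlib
import Cfsg.Agent.GroupStructure3.HSOut.Index
import Cfsg.Agent.GroupStructure3.HSAut.Count
import Cfsg.Agent.Lib.LeechAut.HSUnique
import Cfsg.Prelude.Def_Spor_Conway
import Cfsg.Prelude.Def_KGroupFacts

/-!
Every automorphism of the Higman-Sims group comes from an automorphism of the graph of the
hundred vectors.
-/

set_option autoImplicit false

namespace Cfsg.Agent.GroupStructure3.HSOut

open Cfsg Cfsg.Agent.Golay.Basic Cfsg.Agent.Golay.Perm
open Cfsg.Agent.LeechAut
open scoped Pointwise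

local notation "pG" => Equiv.Perm GolayPt
local notation "GG" => HS.G
local notation "YY" => HS.Y

instance finiteY : Finite YY := Nat.finite_of_card_ne_zero (by rw [HS.card_Y]; norm_num)

instance finiteG : Finite GG := Nat.finite_of_card_ne_zero (by rw [HS.card_G]; norm_num)

theorem transitive (y z : YY) : ∃ g : GG, g • y = z := by
  obtain ⟨g, hg, e⟩ := HS.G_transitive y.2 z.2
  exact ⟨⟨g, hg⟩, Subtype.ext e⟩

theorem card_stab (y : YY) : Nat.card (MulAction.stabilizer GG y) = 443520 := by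
  have h := Subgroup.index_mul_card (MulAction.stabilizer GG y)
  rw [MulAction.index_stabilizer, show MulAction.orbit GG y = Set.univ from
    Set.eq_univ_of_forall fun z => transitive y z, Set.ncard_univ, HS.card_Y, HS.card_G] at h
  omega

theorem card_inf_stab_y0 {z : YY} (hz : z ≠ HS.y0) :
    ((z.1 : Cfsg.Agent.Leech.Index.Vec) none = 1 ∧
      Nat.card ↥(MulAction.stabilizer GG HS.y0 ⊓ MulAction.stabilizer GG z) = 20160) ∨
    ((z.1 : Cfsg.Agent.Leech.Index.Vec) none = 2 ∧
      Nat.card ↥(MulAction.stabilizer GG HS.y0 ⊓ MulAction.stabilizer GG z) = 5760) := by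
  have hcard : ∀ (k : ℤ) (n : ℕ), ({y : leechLattice | HS.InY y ∧ (y : Cfsg.Agent.Leech.Index.Vec) none = k}).ncard = n →
      (∀ w : YY, (w.1 : Cfsg.Agent.Leech.Index.Vec) none = k → ∃ g ∈ HS.S, g • z.1 = w.1) →
      (z.1 : Cfsg.Agent.Leech.Index.Vec) none = k →
      n * Nat.card ↥(MulAction.stabilizer GG HS.y0 ⊓ MulAction.stabilizer GG z) = 443520 := by
    intro k n hn htr hzk
    let S0 := MulAction.stabilizer GG HS.y0
    have horb : MulAction.orbit S0 z = {w : YY | (w.1 : Cfsg.Agent.Leech.Index.Vec) none = k} := by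
      ext w
      constructor
      · rintro ⟨g, rfl⟩
        have hg : (g.1 : Co0) • Cfsg.Agent.LeechAut.Pairs.w0 = Cfsg.Agent.LeechAut.Pairs.w0 := congrArg Subtype.val g.2
        have h := Cfsg.Agent.LeechAut.Basic.dot_smul (g.1 : Co0) Cfsg.Agent.LeechAut.Pairs.w0 z.1
        rw [hg, HS.dot_w0_Y z.2, HS.dot_w0_Y (HS.inY_smul g.1.2 z.2), hzk] at h
        show (((g.1 : Co0) • z.1 : leechLattice) : Cfsg.Agent.Leech.Index.Vec) none = k
        omega
      · intro hw
        obtain ⟨g, hg, e⟩ := htr w hw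
        exact ⟨⟨⟨g, HS.S_le_G hg⟩, Subtype.ext (HS.mem_S.1 hg).2⟩, Subtype.ext e⟩
    have h := Subgroup.index_mul_card (MulAction.stabilizer S0 z)
    rw [MulAction.index_stabilizer, horb, card_stab] at h
    have e1 : {w : YY | (w.1 : Cfsg.Agent.Leech.Index.Vec) none = k}.ncard = n := by
      rw [← hn, ← Set.ncard_image_of_injective {w : YY | (w.1 : Cfsg.Agent.Leech.Index.Vec) none = k}
        Subtype.val_injective]
      refine congrArg Set.ncard (Set.ext fun w => ?_)
      exact ⟨fun ⟨u, hu, e⟩ => e ▸ ⟨u.2, hu⟩, fun ⟨hw, hk⟩ => ⟨⟨w, hw⟩, hk, rfl⟩⟩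
    have e2 : Nat.card (MulAction.stabilizer S0 z) =
        Nat.card ↥(S0 ⊓ MulAction.stabilizer GG z) :=
      Nat.card_congr ⟨fun g => ⟨g.1.1, g.1.2, g.2⟩, fun g => ⟨⟨g.1, g.2.1⟩, g.2.2⟩, fun g => rfl,
        fun g => rfl⟩
    rwa [e1, e2] at h
  rcases HS.one_or_two z.2 (fun e => hz (Subtype.ext e)) with h | h
  · refine Or.inl ⟨h, ?_⟩
    have := hcard 1 22 HS.card_one (fun w hw => HS.S_trans_one z.2 w.2 h hw) h
    omega
  · refine Or.inr ⟨h, ?_⟩
    have := hcard 2 77 HS.card_two (fun w hw => HS.S_trans_two z.2 w.2 h hw) h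
    omega

theorem mem_stab_conj (g : GG) (y : YY) (h : GG) :
    h ∈ MulAction.stabilizer GG (g • y) ↔ g⁻¹ * h * g ∈ MulAction.stabilizer GG y := by
  simp only [MulAction.mem_stabilizer_iff, mul_smul, inv_smul_eq_iff]

theorem card_inf_smul (g : GG) (y z : YY) :
    Nat.card ↥(MulAction.stabilizer GG (g • y) ⊓ MulAction.stabilizer GG (g • z)) =
      Nat.card ↥(MulAction.stabilizer GG y ⊓ MulAction.stabilizer GG z) := by
  refine Nat.card_congr ((MulAut.conj g⁻¹).toEquiv.subtypeEquiv fun h => ?_)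
  show h ∈ _ ⊓ _ ↔ g⁻¹ * h * g⁻¹⁻¹ ∈ _ ⊓ _
  rw [inv_inv, Subgroup.mem_inf, Subgroup.mem_inf, mem_stab_conj, mem_stab_conj]

theorem adj_iff (y z : YY) : HSGraph.graph.Adj y z ↔ y ≠ z ∧
    Nat.card ↥(MulAction.stabilizer GG y ⊓ MulAction.stabilizer GG z) = 20160 := by
  obtain ⟨g, hg⟩ := transitive HS.y0 y
  subst hg
  rw [← smul_inv_smul g z, card_inf_smul, ← HSGraph.toAut_apply, ← HSGraph.toAut_apply,
    (HSGraph.toAut g).map_rel_iff, (HSGraph.toAut g).injective.ne_iff, HSGraph.graph_adj]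
  generalize g⁻¹ • z = u
  refine and_congr_right fun hne => ?_
  show dotInt (Cfsg.Agent.LeechAut.Pairs.w0 : Cfsg.Agent.Leech.Index.Vec) (u.1 : Cfsg.Agent.Leech.Index.Vec) = 8 ↔ _
  rw [HS.dot_w0_Y u.2]
  rcases card_inf_stab_y0 (z := u) (Ne.symm hne) with ⟨a, b⟩ | ⟨a, b⟩ <;> rw [a, b] <;> norm_num

theorem not_eleven_inf {y z : YY} (hne : y ≠ z) :
    ¬ 11 ∣ Nat.card ↥(MulAction.stabilizer GG y ⊓ MulAction.stabilizer GG z) := by
  obtain ⟨g, rfl⟩ := transitive HS.y0 y
  rw [← smul_inv_smul g z, card_inf_smul]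
  have hne' : g⁻¹ • z ≠ HS.y0 := fun e => hne (by rw [← e, smul_inv_smul])
  rcases card_inf_stab_y0 hne' with ⟨-, b⟩ | ⟨-, b⟩ <;> rw [b] <;> norm_num

theorem fix_unique {x : GG} (hx : orderOf x = 11) {y z : YY} (hy : x • y = y) (hz : x • z = z) :
    y = z := by
  by_contra hne
  refine not_eleven_inf hne ?_
  have hm : x ∈ MulAction.stabilizer GG y ⊓ MulAction.stabilizer GG z := ⟨hy, hz⟩
  have := orderOf_dvd_natCard (⟨x, hm⟩ :
    ↥(MulAction.stabilizer GG y ⊓ MulAction.stabilizer GG z))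
  rwa [Subgroup.orderOf_mk, hx] at this

theorem exists_eleven (y : YY) : ∃ x : GG, orderOf x = 11 ∧ x • y = y := by
  haveI : Fact (Nat.Prime 11) := ⟨by norm_num⟩
  obtain ⟨x, hx⟩ := exists_prime_orderOf_dvd_card' 11 (G := MulAction.stabilizer GG y)
    (by rw [card_stab]; norm_num)
  exact ⟨x, by rw [Subgroup.orderOf_coe, hx], x.2⟩

theorem stab_injective {y z : YY} (h : MulAction.stabilizer GG y = MulAction.stabilizer GG z) :
    y = z := by
  obtain ⟨x, hx, hxy⟩ := exists_eleven y
  have hm : x ∈ MulAction.stabilizer GG y := hxy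
  rw [h] at hm
  exact fix_unique hx hxy hm

/-- The image of a point stabiliser under an automorphism is a point stabiliser. -/
theorem exists_stab (φ : GG ≃* GG) (y : YY) :
    ∃ z : YY, (MulAction.stabilizer GG y).map φ.toMonoidHom = MulAction.stabilizer GG z := by
  classical
  haveI : Fact (Nat.Prime 11) := ⟨by norm_num⟩
  obtain ⟨g₀, hg₀⟩ := transitive y HS.y0
  set H := (MulAction.stabilizer GG y).map φ.toMonoidHom with hH
  have hHc : Nat.card H = 443520 := by
    rw [hH, Subgroup.card_map_of_injective φ.injective, card_stab]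
  -- the embedding into the fixer of two points
  let eS : HS.M22s ≃* HS.S := MulEquiv.ofBijective HS.liftHom HS.liftHom_bijective
  let j0 : MulAction.stabilizer GG HS.y0 ≃* HS.S :=
    (MulEquiv.subgroupCongr HS.stab_y0).trans (Subgroup.subgroupOfEquivOfLe HS.S_le_G)
  let f0 : MulAction.stabilizer GG HS.y0 →* pG :=
    (M24.subtype.comp HS.M22s.subtype).comp (j0.trans eS.symm).toMonoidHom
  have hf0 : Function.Injective f0 :=
    (M24.subtype_injective.comp HS.M22s.subtype_injective).comp (j0.trans eS.symm).injective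
  have hHback : ∀ h : H, (MulAut.conj g₀).toMonoidHom (φ.symm (h : GG)) ∈
      MulAction.stabilizer GG HS.y0 := by
    intro h
    obtain ⟨u, hu, e⟩ := h.2
    have : φ.symm (h : GG) = u := by rw [← e]; exact φ.symm_apply_apply u
    rw [this]
    show g₀ * u * g₀⁻¹ ∈ _
    rw [← hg₀, mem_stab_conj]
    simpa [mul_assoc] using hu
  let f : H →* pG := f0.comp
    ((((MulAut.conj g₀).toMonoidHom.comp φ.symm.toMonoidHom).comp H.subtype).codRestrict _ hHback)
  have hf : Function.Injective f := by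
    intro h h' e
    exact Subtype.ext (φ.symm.injective ((MulAut.conj g₀).injective (congrArg Subtype.val (hf0 e))))
  have hfle : f.range ≤ fixers M24 [none, pt 0] := by
    rintro _ ⟨h, rfl⟩
    let u := (j0.trans eS.symm)
      ⟨(MulAut.conj g₀).toMonoidHom (φ.symm (h : GG)), hHback h⟩
    refine ⟨u.1.2, fun w hw => ?_⟩
    simp only [List.mem_cons, List.not_mem_nil, or_false] at hw
    obtain ⟨h1, h2⟩ := HS.mem_M22s.1 u.2
    rcases hw with rfl | rfl
    exacts [h1, h2]
  -- an element of order eleven and its fixed point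
  obtain ⟨x, hx⟩ := exists_prime_orderOf_dvd_card' 11 (G := H) (by rw [hHc]; norm_num)
  have hx' : orderOf (x : GG) = 11 := by rw [Subgroup.orderOf_coe, hx]
  have hpg : IsPGroup 11 (Subgroup.zpowers x) :=
    IsPGroup.of_card (n := 1) (by rw [Nat.card_zpowers, hx, pow_one])
  have hmodY := hpg.card_modEq_card_fixedPoints YY
  obtain ⟨z, hz⟩ : ∃ z : YY, x • z = z := by
    by_contra hno
    push Not at hno
    have h0 : Nat.card (MulAction.fixedPoints (Subgroup.zpowers x) YY) = 0 := by
      rw [Nat.card_eq_zero]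
      exact Or.inl ⟨fun w => hno w.1 (w.2 ⟨x, Subgroup.mem_zpowers x⟩)⟩
    rw [h0, HS.card_Y] at hmodY
    exact absurd hmodY (by decide)
  refine ⟨z, ?_⟩
  set O : Set YY := MulAction.orbit H z with hO
  have hk11 : O.ncard % 11 = 1 := by
    have hm := hpg.card_modEq_card_fixedPoints ↥O
    have h1 : Nat.card (MulAction.fixedPoints (Subgroup.zpowers x) ↥O) = 1 := by
      rw [Nat.card_eq_one_iff_unique]
      refine ⟨⟨fun a b => Subtype.ext (Subtype.ext ?_)⟩, ⟨⟨⟨z, MulAction.mem_orbit_self z⟩, ?_⟩⟩⟩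
      · exact fix_unique hx' (congrArg Subtype.val (a.2 ⟨x, Subgroup.mem_zpowers x⟩))
          (congrArg Subtype.val (b.2 ⟨x, Subgroup.mem_zpowers x⟩))
      · intro k
        exact Subtype.ext ((Subgroup.zpowers_le.2 (show x ∈ MulAction.stabilizer H z from hz)) k.2)
    rw [h1, Nat.card_coe_set_eq] at hm
    exact hm
  have hk100 : O.ncard ≤ 100 := by
    rw [← HS.card_Y, ← Set.ncard_univ]
    exact Set.ncard_le_ncard (Set.subset_univ _) Set.finite_univ
  have hmul : O.ncard * Nat.card (MulAction.stabilizer H z) = 443520 := by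
    rw [← hHc, ← Subgroup.index_mul_card (MulAction.stabilizer H z), MulAction.index_stabilizer]
  have key : ∀ k ≤ 100, k % 11 = 1 → k ∣ 443520 → k = 1 ∨ k = 12 ∨ k = 45 ∨ k = 56 := by
    decide +kernel
  set Q := (MulAction.stabilizer H z).map f with hQ
  have hQc : Nat.card Q = Nat.card (MulAction.stabilizer H z) := Subgroup.card_map_of_injective hf
  have hQle : Q ≤ fixers M24 [none, pt 0] := (Subgroup.map_le_range _ _).trans hfle
  have hne0 : (none : GolayPt) ≠ pt 0 := by decide
  rcases key _ hk100 hk11 (Dvd.intro _ hmul) with h | h | h | h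
  · rw [hO, Set.ncard_eq_one] at h
    obtain ⟨w, hw⟩ := h
    refine Subgroup.eq_of_le_of_card_ge (fun g hg => ?_) (by rw [card_stab, hHc])
    have h1 : (⟨g, hg⟩ : H) • z ∈ ({w} : Set YY) := hw ▸ MulAction.mem_orbit z _
    have h2 : z ∈ ({w} : Set YY) := hw ▸ MulAction.mem_orbit_self z
    exact (Set.mem_singleton_iff.1 h1).trans (Set.mem_singleton_iff.1 h2).symm
  · exact absurd (by rw [hQc]; rw [h] at hmul; omega) (not_card_36960 hne0 hQle)
  · exact absurd (by rw [hQc]; rw [h] at hmul; omega) (not_card_9856 hne0 hQle)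
  · exact absurd (by rw [hQc]; rw [h] at hmul; omega) (MathieuSub.not_card_7920 hne0 hQle)

/-- The automorphism group of the graph. -/
abbrev A := HSGraph.graph ≃g HSGraph.graph

theorem card_A : Nat.card A = 88704000 := by
  obtain ⟨j⟩ := HSGraph.exists_iso (α := Fin 22) (by simp) HSAut.steiner
  rw [← HSAut.model_card]
  exact Nat.card_congr ⟨fun u => (j.trans u).trans j.symm, fun u => (j.symm.trans u).trans j,
    fun u => by ext x; simp, fun u => by ext x; simp⟩

theorem card_mulAut : Nat.card (MulAut GG) = 88704000 := by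
  classical
  haveI : Finite A := Nat.finite_of_card_ne_zero (by rw [card_A]; norm_num)
  let T : Subgroup A := HSGraph.toAut.range
  let ET := MonoidHom.ofInjective HSGraph.toAut_injective
  have hTi : T.index = 2 := by
    have h := T.card_mul_index
    rw [show Nat.card T = 44352000 from (Nat.card_congr ET.symm.toEquiv).trans HS.card_G, card_A] at h
    omega
  haveI : T.Normal := Subgroup.normal_of_index_eq_two hTi
  let ψ : A →* MulAut T := MulAut.conjNormal
  rw [Nat.card_congr (MulAut.congr ET).toEquiv, ← card_A]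
  refine (Nat.card_congr (Equiv.ofBijective ψ ⟨?_, ?_⟩)).symm
  · rw [injective_iff_map_eq_one]
    intro a ha
    refine RelIso.ext fun y => ?_
    obtain ⟨x, hx, hxy⟩ := exists_eleven y
    have hc : a * HSGraph.toAut x * a⁻¹ = HSGraph.toAut x :=
      congrArg Subtype.val (DFunLike.congr_fun ha (⟨HSGraph.toAut x, ⟨x, rfl⟩⟩ : T))
    rw [mul_inv_eq_iff_eq_mul] at hc
    refine fix_unique hx ?_ hxy
    have := DFunLike.congr_fun hc y
    change a (x • y) = x • a y at this
    rw [hxy] at this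
    exact this.symm
  · intro Φ
    let φ : GG ≃* GG := (ET.trans Φ).trans ET.symm
    choose σ hσ using exists_stab φ
    have hσinj : Function.Injective σ := fun y z e => stab_injective
      (Subgroup.map_injective (f := φ.toMonoidHom) φ.injective (by rw [hσ, hσ, e]))
    let σ' : YY ≃ YY := Equiv.ofBijective σ (Finite.injective_iff_bijective.1 hσinj)
    have heq : ∀ (g : GG) y, σ (g • y) = φ g • σ y := fun g y => stab_injective (by
      ext h
      rw [← hσ, mem_stab_conj, ← hσ y]
      obtain ⟨u, rfl⟩ := φ.surjective h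
      rw [← map_inv, ← map_mul, ← map_mul]
      show φ.toMonoidHom u ∈ _ ↔ φ.toMonoidHom (g⁻¹ * u * g) ∈ _
      rw [Subgroup.mem_map_iff_mem φ.injective, Subgroup.mem_map_iff_mem φ.injective, mem_stab_conj])
    have hadj : ∀ y z, HSGraph.graph.Adj (σ y) (σ z) ↔ HSGraph.graph.Adj y z := fun y z => by
      rw [adj_iff, adj_iff, hσinj.ne_iff, ← hσ y, ← hσ z,
        ← Subgroup.map_inf_eq _ _ _ φ.injective, Subgroup.card_map_of_injective φ.injective]
    let s : A := { toEquiv := σ', map_rel_iff' := fun {y z} => hadj y z }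
    refine ⟨s, MulEquiv.ext fun t => Subtype.ext ?_⟩
    obtain ⟨g, rfl⟩ := ET.surjective t
    show s * HSGraph.toAut g * s⁻¹ = ((Φ (ET g) : T) : A)
    have hΦ : ((Φ (ET g) : T) : A) = HSGraph.toAut (φ g) := by
      show _ = ((ET (ET.symm (Φ (ET g))) : T) : A)
      rw [MulEquiv.apply_symm_apply]
    rw [hΦ, mul_inv_eq_iff_eq_mul]
    exact RelIso.ext fun y => heq g y

/-- The group of the definitions is the stabiliser of the pair. -/
theorem nonempty_equiv : Nonempty (Spor.HS ≃* GG) := by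
  set w := -(Spor.leechV + Spor.leechU') with hwdef
  obtain ⟨E⟩ := HS.equiv_G Spor.leechV w (by decide +kernel)
    (by rw [hwdef]; decide +kernel) (by rw [hwdef]; decide +kernel)
  have hu : Spor.leechU' = -(Spor.leechV + w) := by rw [hwdef]; abel
  have h0 : ∀ g : Co0, g • (0 : leechLattice) = 0 := fun g => by
    have h := Cfsg.Agent.LeechAut.Basic.smul_add' g 0 0
    rw [add_zero] at h
    exact left_eq_add.1 h
  have hneg : ∀ (g : Co0) (v : leechLattice), g • (-v) = -(g • v) := fun g v => by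
    refine eq_neg_of_add_eq_zero_right ?_
    rw [← Cfsg.Agent.LeechAut.Basic.smul_add', add_neg_cancel, h0]
  let E' : Spor.HS ≃* ↥(MulAction.stabilizer Co0 Spor.leechV ⊓ MulAction.stabilizer Co0 w) :=
    { toFun := fun g => ⟨⟨(g : Equiv.Perm leechLattice), g.2.1.1⟩, ⟨g.2.1.2, by
        have hv' : (⟨(g : Equiv.Perm leechLattice), g.2.1.1⟩ : Co0) • Spor.leechV = Spor.leechV := g.2.1.2
        have hu' : (⟨(g : Equiv.Perm leechLattice), g.2.1.1⟩ : Co0) • Spor.leechU' = Spor.leechU' := g.2.2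
        show (⟨(g : Equiv.Perm leechLattice), g.2.1.1⟩ : Co0) • w = w
        rw [hwdef, hneg,
          Cfsg.Agent.LeechAut.Basic.smul_add', hv', hu']⟩⟩
      invFun := fun g => ⟨((g : Co0) : Equiv.Perm leechLattice), ⟨(g : Co0).2, g.2.1⟩, by
        show (g : Co0) • Spor.leechU' = Spor.leechU'
        rw [hu, hneg, Cfsg.Agent.LeechAut.Basic.smul_add', MulAction.mem_stabilizer_iff.1 g.2.1,
          MulAction.mem_stabilizer_iff.1 g.2.2]⟩
      left_inv := fun g => rfl
      right_inv := fun g => rfl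
      map_mul' := fun g h => rfl }
  exact ⟨E'.trans E⟩

theorem card_out : Nat.card (Cfsg.Out ↥Spor.HS) = 2 := by
  obtain ⟨E⟩ := nonempty_equiv
  have hA : Nat.card (MulAut ↥Spor.HS) = 88704000 :=
    (Nat.card_congr (MulAut.congr E).toEquiv).trans card_mulAut
  have hG : Nat.card ↥Spor.HS = 44352000 := (Nat.card_congr E.toEquiv).trans HS.card_G
  haveI : Finite ↥Spor.HS := Nat.finite_of_card_ne_zero (by rw [hG]; norm_num)
  haveI hs : IsSimpleGroup ↥Spor.HS := E.isSimpleGroup_congr.2 HS.isSimple_G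
  have hz : Subgroup.center ↥Spor.HS = ⊥ := by
    rcases IsSimpleGroup.eq_bot_or_eq_top_of_normal (Subgroup.center ↥Spor.HS) inferInstance with h | h
    · exact h
    · exfalso
      haveI : IsMulCommutative ↥Spor.HS := ⟨⟨fun a b =>
        ((Subgroup.mem_center_iff.1 (h ▸ Subgroup.mem_top a)) b).symm⟩⟩
      have hp : (Nat.card ↥Spor.HS).Prime := by
        letI : CommGroup ↥Spor.HS := { (inferInstance : Group ↥Spor.HS) with mul_comm := mul_comm' }
        exact IsSimpleGroup.prime_card
      rw [hG] at hp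
      exact absurd hp (Nat.not_prime_mul (a := 2) (b := 22176000) (by norm_num) (by norm_num))
  have hinn : Nat.card (Cfsg.Inn ↥Spor.HS) = 44352000 := by
    refine (Nat.card_congr (MonoidHom.ofInjective ?_).toEquiv).symm.trans hG
    rw [← MonoidHom.ker_eq_bot_iff, eq_bot_iff]
    intro g hg
    rw [← hz, Subgroup.mem_center_iff]
    intro h
    have := DFunLike.congr_fun (MonoidHom.mem_ker.1 hg) h
    simp only [MulAut.conj_apply, MulAut.one_apply] at this
    exact (mul_inv_eq_iff_eq_mul.1 this).symm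
  have h := Subgroup.card_eq_card_quotient_mul_card_subgroup (Cfsg.Inn ↥Spor.HS)
  rw [hA, hinn] at h
  show Nat.card (MulAut ↥Spor.HS ⧸ Cfsg.Inn ↥Spor.HS) = 2
  omega

end Cfsg.Agent.GroupStructure3.HSOut
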